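import Groth.Agent.AmpleThLib.Locus
import Groth.Prelude.Def_LinSer
import Mathlib

/-! A section vanishing at prescribed rational points. -/

set_option autoImplicit false
set_option backward.isDefEq.respectTransparency false

universe u

open CategoryTheory CategoryTheory.Limits AlgebraicGeometry TopologicalSpace Opposite
open AmpleLib AmpleThLib
open TwistLib (genSet)

noncomputable section

namespace RatPtSerLib

variable {k : Type u} [Field k] {X : Scheme.{u}} (sX : X ⟶ Spec (CommRingCat.of k))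

/-- evaluation of a function at a rational point -/
def ev (p : Spec (CommRingCat.of k) ⟶ X) (U : X.Opens) (h : ⊤ ≤ p ⁻¹ᵁ U) : Γ(X, U) →+* k :=
  (Scheme.ΓSpecIso (CommRingCat.of k)).hom.hom.comp (p.appLE U ⊤ h).hom

theorem ev_const (p : Spec (CommRingCat.of k) ⟶ X) (hp : p ≫ sX = 𝟙 _) (U : X.Opens) (h : ⊤ ≤ p ⁻¹ᵁ U) (c : k) :
    ev p U h (X.presheaf.map (homOfLE (le_top : U ≤ ⊤)).op (Coh.toGlobal sX c)) = c := by
  have key : sX.appTop ≫ X.presheaf.map (homOfLE (le_top : U ≤ ⊤)).op ≫ p.appLE U ⊤ h = 𝟙 _ := by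
    rw [Scheme.Hom.map_appLE]
    have : sX.appTop ≫ p.appTop = 𝟙 _ := by
      rw [← Scheme.Hom.comp_appTop, hp]
      rfl
    exact this
  have := congr($key ((Scheme.ΓSpecIso (CommRingCat.of k)).inv c))
  change (Scheme.ΓSpecIso (CommRingCat.of k)).hom (p.appLE U ⊤ h (X.presheaf.map _ (Coh.toGlobal sX c))) = c
  refine (congrArg _ this).trans ?_
  rw [CommRingCat.id_apply, ← CommRingCat.comp_apply, Iso.inv_hom_id]
  rfl

theorem mem_basicOpen_iff (p : Spec (CommRingCat.of k) ⟶ X) (U : X.Opens) (h : ⊤ ≤ p ⁻¹ᵁ U) (r : Γ(X, U)) :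
    p (IsLocalRing.closedPoint k) ∈ X.basicOpen r ↔ ev p U h r ≠ 0 := by
  have hb : (Spec (CommRingCat.of k)).basicOpen (p.appLE U ⊤ h r) = ⊤ ⊓ p ⁻¹ᵁ X.basicOpen r := by
    rw [Scheme.basicOpen_appLE]
  rw [top_inf_eq] at hb
  change IsLocalRing.closedPoint k ∈ p ⁻¹ᵁ X.basicOpen r ↔ _
  rw [← hb]
  constructor
  · intro hm h0
    have hz : p.appLE U ⊤ h r = 0 :=
      (ConcreteCategory.bijective_of_isIso (Scheme.ΓSpecIso (CommRingCat.of k)).hom).1 (h0.trans (map_zero _).symm)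
    rw [hz, Scheme.basicOpen_zero] at hm
    exact hm
  · intro hne
    have hu : IsUnit (p.appLE U ⊤ h r) := by
      have := (isUnit_iff_ne_zero.2 hne).map (Scheme.ΓSpecIso (CommRingCat.of k)).inv.hom
      simpa [ev, ← CommRingCat.comp_apply] using this
    rw [Scheme.basicOpen_of_isUnit _ hu]
    trivial

theorem exists_section [X.Over (Spec (CommRingCat.of k))] {L : X.Modules} (hL : PicF.IsInvertible L) (n : ℕ)
    (p : Fin n → (Spec (CommRingCat.of k) ⟶ X))
    (hp : ∀ i, p i ≫ (X ↘ Spec (CommRingCat.of k)) = 𝟙 _)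
    (σ : Fin (n + 1) → Γ(L, ⊤)) (ht : LinSer.LinIndep k X L σ) :
    ∃ s : Coh.structureModule X ⟶ L, s ≠ 0 ∧
      ∀ i, (p i) (IsLocalRing.closedPoint k) ∉ CohB1.genLocus L s := by
  classical
  choose U e hxU he using fun i : Fin n => TwistLib.exists_genOn hL ((p i) (IsLocalRing.closedPoint k))
  have hle : ∀ i, ⊤ ≤ p i ⁻¹ᵁ U i := fun i y _ => by
    show p i y ∈ U i
    rw [show y = IsLocalRing.closedPoint k from Subsingleton.elim (α := PrimeSpectrum k) _ _]
    exact hxU i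
  choose r hr using fun (i : Fin n) (j : Fin (n + 1)) => exists_coeff (σ j) (he i)
  let Φ : (Fin (n + 1) → k) →ₗ[k] (Fin n → k) :=
    Matrix.mulVecLin (Matrix.of fun i j => ev (p i) (U i) (hle i) (r i j))
  have hker : LinearMap.ker Φ ≠ ⊥ := fun hbot => by
    have := LinearMap.finrank_le_finrank_of_injective (LinearMap.ker_eq_bot.1 hbot)
    simp only [Module.finrank_fin_fun] at this
    omega
  obtain ⟨c, hc, hc0⟩ := (Submodule.ne_bot_iff _).1 hker
  let a : Fin (n + 1) → Γ(X, ⊤) := fun j => Coh.toGlobal (X ↘ Spec (CommRingCat.of k)) (c j)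
  let τ : Γ(L, ⊤) := ∑ j, a j • σ j
  refine ⟨QCohLib.unitHom L τ, fun h0 => hc0 (ht c ?_), fun i hi => ?_⟩
  · have h1 : (QCohLib.unitHom L τ).app ⊤ (1 : Γ(X, ⊤)) = 0 := by rw [h0]; rfl
    rw [QCohLib.unitHom_app, one_smul] at h1
    refine Eq.trans ?_ h1
    exact ((congrArg (fun f => f τ) (L.presheaf.map_id (op ⊤))).trans rfl).symm
  · rw [genLocus_unitHom hL τ] at hi
    have hrτ : (∑ j, X.presheaf.map (homOfLE (le_top : U i ≤ ⊤)).op (a j) * r i j) • e i =
        res L le_top τ := by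
      rw [Finset.sum_smul]
      change _ = L.presheaf.map _ (∑ j, _)
      rw [map_sum]
      refine Finset.sum_congr rfl fun j _ => ?_
      rw [mul_smul, hr i j]
      exact (res_smul L le_top _ (σ j)).symm
    have hm := (SetLike.ext_iff.mp (mem_genSet_coeff hL τ (he i) hrτ) ((p i) (IsLocalRing.closedPoint k))).1
      ⟨hi, hxU i⟩
    rw [mem_basicOpen_iff (p i) (U i) (hle i)] at hm
    refine hm ?_
    have hci := congrFun (LinearMap.mem_ker.1 hc) i
    simp only [a, map_sum, map_mul, ev_const (X ↘ Spec (CommRingCat.of k)) (p i) (hp i)]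
    simpa [Φ, Matrix.mulVec, dotProduct, mul_comm] using hci

end RatPtSerLib
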